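import Groth.Agent.S2331
import Groth.Agent.S2333
import Groth.Agent.S2337
import Groth.Agent.S2359
import Groth.Agent.S4418
import Groth.Agent.S12416
import Groth.Agent.Lib.SecLocus.Connected
import Groth.Agent.Lib.SecComp6.Univ.Dvr

/-!
# Quasi-projective dense opens and projectivity over dense opens of a smooth base
-/

set_option autoImplicit false
set_option backward.isDefEq.respectTransparency false

universe u

open CategoryTheory CategoryTheory.Limits AlgebraicGeometry TopologicalSpace

noncomputable section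

namespace GrothLib.QPDense8

theorem isQuasiAffine_openImmersion {V S : Scheme.{u}} (j : V ⟶ S) [IsOpenImmersion j] [QuasiCompact j] :
    Mor2.IsQuasiAffine j := by
  refine ⟨inferInstance, fun W hW => ?_⟩
  haveI : IsAffine (W : Scheme.{u}) := hW
  haveI : CompactSpace (j ⁻¹ᵁ W : Scheme.{u}) :=
    isCompact_iff_compactSpace.mp (j.isCompact_preimage hW.isCompact)
  exact Scheme.IsQuasiAffine.of_isImmersion (j ∣_ W)

/-- A quasi-compact open of the base does not destroy quasi-projectivity. -/
theorem isQuasiProjective_comp {U V S : Scheme.{u}} [CompactSpace S] (h : U ⟶ V) (j : V ⟶ S) [IsOpenImmersion j]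
    [QuasiCompact j] (hq : RelProj.IsQuasiProjective h) : RelProj.IsQuasiProjective (h ≫ j) := by
  obtain ⟨h1, h2, L, hL⟩ := hq
  haveI := h1
  haveI := h2
  obtain ⟨n, -, hn⟩ := Groth.Agent.S2331.result h j L (Coh.structureModule V) hL
    ((Groth.Agent.S2337.result j).mp (isQuasiAffine_openImmersion j))
  exact ⟨inferInstance, inferInstance, _, hn n le_rfl⟩

/-- A quasi-compact open subscheme keeps quasi-projectivity. -/
theorem isQuasiProjective_of_open {U X S : Scheme.{u}} (j : U ⟶ X) [IsOpenImmersion j] [QuasiCompact j] (f : X ⟶ S)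
    (hq : RelProj.IsQuasiProjective f) : RelProj.IsQuasiProjective (j ≫ f) := by
  obtain ⟨h1, h2, L, hL⟩ := hq
  haveI := h1
  haveI := h2
  exact ⟨inferInstance, inferInstance, _, Groth.Agent.S2359.result f j j.isOpenEmbedding.isEmbedding L hL⟩

theorem quasiSeparatedSpace_of_isSeparated {S T : Scheme.{u}} (g : S ⟶ T) [IsSeparated g] [QuasiSeparatedSpace T] :
    QuasiSeparatedSpace S :=
  quasiSeparatedSpace_of_quasiSeparated g

/-- The connected components of a noetherian smooth scheme over a field are open and irreducible. -/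
theorem isOpen_and_isPreirreducible_connectedComponent {k : Type u} [Field k] {S : Scheme.{u}}
    (g : S ⟶ Spec (CommRingCat.of k)) [Smooth g] [QuasiCompact g] (s : S) :
    IsOpen (connectedComponent s) ∧ IsPreirreducible (connectedComponent s) := by
  haveI : IsLocallyNoetherian S := LocallyOfFiniteType.isLocallyNoetherian g
  haveI : CompactSpace S := QuasiCompact.compactSpace_of_compactSpace g
  haveI : AlgebraicGeometry.IsNoetherian S := ⟨⟩
  have hop := SecComp6.isOpen_connectedComponent_noetherian s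
  let C : S.Opens := ⟨connectedComponent s, hop⟩
  haveI : ConnectedSpace (C : Scheme.{u}) := Subtype.connectedSpace isConnected_connectedComponent
  haveI : Smooth (C.ι ≫ g) := inferInstance
  haveI := SecLocus.irreducibleSpace_of_smooth_connected k (C.ι ≫ g)
  refine ⟨hop, ?_⟩
  have h1 := (IrreducibleSpace.isIrreducible_univ (C : Scheme.{u})).image C.ι C.ι.continuous.continuousOn
  rw [Set.image_univ, Scheme.Opens.range_ι] at h1
  exact h1.isPreirreducible

variable {k : Type u} [Field k] {X S : Scheme.{u}} (f : X ⟶ S) (g : S ⟶ Spec (CommRingCat.of k))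
  [Smooth g] [QuasiCompact g]

include g in
theorem exists_projective_restrict [IsProper f] [IsSeparated g] (U : X.Opens)
    (hq : RelProj.IsQuasiProjective (U.ι ≫ f))
    (hs : ∀ s : S, ∃ s' : S, s' ∈ connectedComponent s ∧ s' ∉ ⇑f.base '' (U : Set X)ᶜ) :
    ∃ V : S.Opens, Dense (V : Set S) ∧ RelProj.IsProjective (f ∣_ V) := by
  haveI : IsLocallyNoetherian S := LocallyOfFiniteType.isLocallyNoetherian g
  haveI : CompactSpace S := QuasiCompact.compactSpace_of_compactSpace g
  haveI : AlgebraicGeometry.IsNoetherian S := ⟨⟩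
  let V : S.Opens := ⟨(⇑f.base '' (U : Set X)ᶜ)ᶜ, (f.isClosedMap _ U.2.isClosed_compl).isOpen_compl⟩
  refine ⟨V, dense_iff_inter_open.mpr fun O hO ⟨s, hsO⟩ => ?_, ?_⟩
  · obtain ⟨hop, hirr⟩ := isOpen_and_isPreirreducible_connectedComponent g s
    obtain ⟨s', hs', hV⟩ := hs s
    obtain ⟨z, -, hzO, hzV⟩ := hirr O V hO V.2 ⟨s, mem_connectedComponent, hsO⟩ ⟨s', hs', hV⟩
    exact ⟨z, hzO, hzV⟩
  · have hVU : f ⁻¹ᵁ V ≤ U := fun x hx => by
      by_contra h
      exact hx ⟨x, h, rfl⟩
    haveI : LocallyOfFiniteType f := inferInstance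
    haveI : IsLocallyNoetherian X := LocallyOfFiniteType.isLocallyNoetherian f
    haveI : CompactSpace X := QuasiCompact.compactSpace_of_compactSpace f
    haveI : AlgebraicGeometry.IsNoetherian X := ⟨⟩
    haveI : QuasiCompact (X.homOfLE hVU) := inferInstance
    have h1 := isQuasiProjective_of_open (X.homOfLE hVU) (U.ι ≫ f) hq
    rw [Scheme.homOfLE_ι_assoc, ← morphismRestrict_ι] at h1
    obtain ⟨-, -, L, hL⟩ := h1
    have hq' : RelProj.IsQuasiProjective (f ∣_ V) :=
      ⟨inferInstance, inferInstance, L, Groth.Agent.S2333.result (f ∣_ V) V.ι L hL⟩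
    haveI : CompactSpace (V : Scheme.{u}) := isCompact_iff_compactSpace.mp (NoetherianSpace.isCompact (V : Set S))
    haveI : QuasiSeparatedSpace (V : Scheme.{u}) := inferInstance
    exact Groth.Agent.S12416.result (f ∣_ V) hq'

include g in
theorem exists_quasiProjective_open [Smooth f] (V : S.Opens) (hV : Dense (V : Set S))
    (hp : RelProj.IsProjective (f ∣_ V)) :
    ∃ U : X.Opens, Dense (U : Set X) ∧ RelProj.IsQuasiProjective (U.ι ≫ f) ∧
        ∀ s : S, ∃ s' : S, s' ∈ connectedComponent s ∧ s' ∉ ⇑f.base '' (U : Set X)ᶜ := by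
  haveI : IsLocallyNoetherian S := LocallyOfFiniteType.isLocallyNoetherian g
  haveI : CompactSpace S := QuasiCompact.compactSpace_of_compactSpace g
  haveI : AlgebraicGeometry.IsNoetherian S := ⟨⟩
  refine ⟨f ⁻¹ᵁ V, hV.preimage f.isOpenMap, ?_, fun s => ?_⟩
  · rw [← morphismRestrict_ι]
    exact isQuasiProjective_comp _ _ (Groth.Agent.S4418.result (f ∣_ V) hp).1
  · obtain ⟨z, hzC, hzV⟩ := dense_iff_inter_open.mp hV _
      (isOpen_and_isPreirreducible_connectedComponent g s).1 ⟨s, mem_connectedComponent⟩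
    refine ⟨z, hzC, ?_⟩
    rintro ⟨x, hx, rfl⟩
    exact hx hzV

end GrothLib.QPDense8
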